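import Groth.Agent.EtSupp.EtaleBC
import Groth.Agent.EtSupp.OffClosed
import Groth.Agent.EtaleSite.Clopen
import Groth.Agent.EtDepthLib.Restriction

/-!
# Sections supported off an open set are determined on an étale neighbourhood of the complement
-/

set_option autoImplicit false
universe u

open CategoryTheory CategoryTheory.Limits AlgebraicGeometry Opposite

noncomputable section

namespace Groth.Agent.EtHensExc

variable {X U : Scheme.{u}} (j : U ⟶ X) [IsOpenImmersion j]

/-- Geometric points with the same image are separated by `f` where residue extensions are trivial. -/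
theorem point_ext {X' : Scheme.{u}} (f : X' ⟶ X) {Ω : Type u} [Field Ω]
    (a b : Spec (CommRingCat.of Ω) ⟶ X') (hab : a ≫ f = b ≫ f)
    (hpt : a.base default = b.base default)
    (hκ : Function.Surjective (f.residueFieldMap (a.base default))) : a = b := by
  obtain ⟨⟨x, α⟩, ha⟩ := (Scheme.SpecToEquivOfField Ω X').symm.surjective a
  obtain ⟨⟨y, β⟩, hb⟩ := (Scheme.SpecToEquivOfField Ω X').symm.surjective b
  replace ha : Spec.map α ≫ X'.fromSpecResidueField x = a := ha
  replace hb : Spec.map β ≫ X'.fromSpecResidueField y = b := hb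
  have hxa : a.base default = x := by
    rw [← ha, Scheme.Hom.comp_apply]; exact Scheme.fromSpecResidueField_apply _ _
  have hxb : b.base default = y := by
    rw [← hb, Scheme.Hom.comp_apply]; exact Scheme.fromSpecResidueField_apply _ _
  obtain rfl : x = y := hxa.symm.trans (hpt.trans hxb)
  rw [hxa] at hκ
  rw [← ha, ← hb, Category.assoc, Category.assoc, ← f.SpecMap_residueFieldMap_fromSpecResidueField,
    ← Category.assoc, ← Category.assoc, cancel_mono, ← Spec.map_comp, ← Spec.map_comp, Spec.map_inj] at hab
  have : α = β := by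
    ext1
    exact RingHom.ext fun z => by
      obtain ⟨w, rfl⟩ := hκ z
      exact congr($hab w)
  rw [← ha, ← hb, this]

/-- A sheaf without sections over `U`. -/
def OffU (G : EtCoh.Ab X) : Prop :=
  ∀ (V : X.Etale), Set.range V.hom.base ⊆ Set.range j.base → ∀ s : G.obj.obj (op V), s = 0

theorem offU_secSupp [EtCoh.BCCont j] (F : EtCoh.Ab X) : OffU j ((EtDual.secSupp j).obj F) := by
  intro V hV s
  have hmono : Mono ((kernel.ι (EtDual.unitApp j F)).hom.app (op V)) := by
    have : Mono ((sheafToPresheaf X.smallEtaleTopology AddCommGrpCat.{u + 1}).map (kernel.ι (EtDual.unitApp j F))) := inferInstance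
    exact inferInstanceAs (Mono (((sheafToPresheaf _ _).map (kernel.ι (EtDual.unitApp j F))).app (op V)))
  refine (AddCommGrpCat.mono_iff_injective _).mp hmono ?_
  rw [map_zero]
  have h0 := (EtSupp.EtaleBC.unitApp_eq_zero_iff j F V _).mp
    (congrArg (fun φ => φ.hom.app (op V) s) (kernel.condition (EtDual.unitApp j F))) V (𝟙 V) hV
  rw [op_id, F.obj.map_id] at h0
  exact h0

theorem bijective_res_of_offU {G : EtCoh.Ab X} (hG : OffU j G) (T' : X.Etale)
    (hsurj : ∀ x : X, x ∉ Set.range j.base → ∃ x' : T'.left, T'.hom.base x' = x)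
    (hinj : ∀ a b : T'.left, T'.hom.base a ∉ Set.range j.base → T'.hom.base a = T'.hom.base b → a = b)
    (hκ : ∀ x' : T'.left, T'.hom.base x' ∉ Set.range j.base →
      Function.Surjective (T'.hom.residueFieldMap x')) :
    Function.Bijective (G.obj.map ((EtCore.topIsTerminal X).from T').op) := by
  let UU : X.Etale := Scheme.Etale.mk j
  let toTop : ∀ V : X.Etale, V ⟶ EtCoh.top X := fun V => (EtCore.topIsTerminal X).from V
  let Z : Bool → X.Etale := fun b => cond b T' UU
  let P := G.obj ⋙ forget AddCommGrpCat.{u + 1}
  have hP : (Presieve.ofArrows Z fun b => toTop (Z b)).IsSheafFor P := by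
    rw [Presieve.isSheafFor_iff_generate]
    refine EtaleSite.isSheaf_forget G _ (EtaleSite.mem_topology_of_forall_exists _ fun x => ?_)
    by_cases hx : (x : X) ∈ Set.range j.base
    · obtain ⟨u, hu⟩ := hx
      exact ⟨UU, toTop UU, u, Sieve.le_generate _ _ _ (Presieve.ofArrows.mk false),
        (congrArg (fun φ => φ.base u) (MorphismProperty.Over.w (toTop UU) : (toTop UU).left ≫ 𝟙 X = j)).trans hu⟩
    · obtain ⟨x', hx'⟩ := hsurj x hx
      exact ⟨T', toTop T', x', Sieve.le_generate _ _ _ (Presieve.ofArrows.mk true),
        (congrArg (fun φ => φ.base x') (MorphismProperty.Over.w (toTop T') : (toTop T').left ≫ 𝟙 X = T'.hom)).trans hx'⟩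
  refine ⟨fun s t hst => ?_, fun t => ?_⟩
  · refine hP.isSeparatedFor.ext fun V g hg => ?_
    obtain ⟨⟨⟩⟩ := hg
    · exact (hG UU subset_rfl _).trans (hG UU subset_rfl _).symm
    · exact hst
  · rw [Presieve.isSheafFor_arrows_iff] at hP
    obtain ⟨s, hs, -⟩ := hP (fun b => match b with | true => t | false => 0) fun a b W ga gb h => by
      rcases a with _ | _ <;> rcases b with _ | _
      · show G.obj.map ga.op 0 = G.obj.map gb.op 0
        rw [map_zero, map_zero]
      · refine (hG W ?_ _).trans (hG W ?_ _).symm <;>
        · rw [← MorphismProperty.Over.w ga]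
          rintro _ ⟨p, rfl⟩
          exact ⟨_, rfl⟩
      · refine (hG W ?_ _).trans (hG W ?_ _).symm <;>
        · rw [← MorphismProperty.Over.w gb]
          rintro _ ⟨p, rfl⟩
          exact ⟨_, rfl⟩
      · refine EtaleSite.sect_ext _ _ fun Ω _ _ ξ w => ?_
        show EtaleSite.germ ξ G W w (G.obj.map ga.op t) = EtaleSite.germ ξ G W w (G.obj.map gb.op t)
        let w₁ := (Scheme.pointSmallEtale ξ).fiber.map ga w
        let w₂ := (Scheme.pointSmallEtale ξ).fiber.map gb w
        by_cases hw : ξ.base default ∈ Set.range j.base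
        · let W' := EtaleSite.piece W (W.hom ⁻¹ᵁ j.opensRange)
          let ι' : W' ⟶ W := EtaleSite.pieceHom W (W.hom ⁻¹ᵁ j.opensRange)
          let wl : Spec (CommRingCat.of Ω) ⟶ W.left := w.left
          have hwl : wl ≫ W.hom = ξ := Over.w w
          have hwW : ∀ p, wl p ∈ W.hom ⁻¹ᵁ j.opensRange := fun p => by
            show W.hom (wl p) ∈ Set.range j.base
            rw [Subsingleton.elim p default, ← Scheme.Hom.comp_apply, hwl]
            exact hw
          let S : Scheme.{u} := W.left
          let O : S.Opens := W.hom ⁻¹ᵁ j.opensRange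
          let l := IsOpenImmersion.lift O.ι wl (by
            rintro _ ⟨p, rfl⟩
            exact ⟨⟨_, hwW p⟩, rfl⟩)
          let w' : (Scheme.pointSmallEtale ξ).fiber.obj W' :=
            (Over.homMk l (by
              show l ≫ _ ≫ W.hom = ξ
              exact (Category.assoc _ _ _).symm.trans ((congrArg (· ≫ W.hom) (IsOpenImmersion.lift_fac O.ι wl _)).trans hwl)) :
              Over.mk ξ ⟶ (Scheme.Etale.forget X).obj W')
          have hw' : (Scheme.pointSmallEtale ξ).fiber.map ι' w' = w :=
            Over.OverMorphism.ext (IsOpenImmersion.lift_fac O.ι wl _)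
          have hW' : Set.range W'.hom.base ⊆ Set.range j.base := by
            rintro _ ⟨p, rfl⟩
            exact p.2
          rw [← hw', ← EtaleSite.germ_res, ← EtaleSite.germ_res]
          exact congrArg _ ((hG W' hW' _).trans (hG W' hW' _).symm)
        · have : w₁ = w₂ := by
            refine Over.OverMorphism.ext ?_
            let l₁ : Spec (CommRingCat.of Ω) ⟶ T'.left := w₁.left
            let l₂ : Spec (CommRingCat.of Ω) ⟶ T'.left := w₂.left
            show l₁ = l₂
            have e₁ : l₁ ≫ T'.hom = ξ := Over.w w₁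
            have e₂ : l₂ ≫ T'.hom = ξ := Over.w w₂
            have p₁ : T'.hom.base (l₁.base default) = ξ.base default :=
              congrArg (fun φ => φ.base default) e₁
            have p₂ : T'.hom.base (l₂.base default) = ξ.base default :=
              congrArg (fun φ => φ.base default) e₂
            exact point_ext T'.hom _ _ (e₁.trans e₂.symm)
              (hinj _ _ (p₁ ▸ hw) (p₁.trans p₂.symm)) (hκ _ (p₁ ▸ hw))
          rw [EtaleSite.germ_res, EtaleSite.germ_res]
          exact congrArg (fun q => EtaleSite.germ ξ G T' q t) this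
    exact ⟨s, hs true⟩

theorem injective_ι_app [EtCoh.BCCont j] (F : EtCoh.Ab X) (V : X.Etale) :
    Function.Injective ((kernel.ι (EtDual.unitApp j F)).hom.app (op V)) := by
  have hmono : Mono ((kernel.ι (EtDual.unitApp j F)).hom.app (op V)) := by
    have : Mono ((sheafToPresheaf X.smallEtaleTopology AddCommGrpCat.{u + 1}).map (kernel.ι (EtDual.unitApp j F))) := inferInstance
    exact inferInstanceAs (Mono (((sheafToPresheaf _ _).map (kernel.ι (EtDual.unitApp j F))).app (op V)))
  exact (AddCommGrpCat.mono_iff_injective _).mp hmono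

/-- A section dying on everything over `U` comes from `secSupp`. -/
theorem exists_supp [EtCoh.BCCont j] (F : EtCoh.Ab X) (V : X.Etale) (s : F.obj.obj (op V))
    (h : ∀ (V' : X.Etale) (f : V' ⟶ V), Set.range V'.hom.base ⊆ Set.range j.base →
      F.obj.map f.op s = 0) :
    ∃ t, (kernel.ι (EtDual.unitApp j F)).hom.app (op V) t = s := by
  let S : ShortComplex (EtCoh.Ab X) :=
    ShortComplex.mk (kernel.ι (EtDual.unitApp j F)) _ (kernel.condition _)
  have hex : S.Exact := ShortComplex.exact_of_f_is_kernel _ (kernelIsKernel _)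
  have hm : Mono S.f := equalizer.ι_mono
  have h' := (hex.map_of_mono_of_preservesKernel
    (sheafToPresheaf X.smallEtaleTopology AddCommGrpCat.{u + 1}) inferInstance inferInstance)
  have h'' := h'.map ((evaluation X.Etaleᵒᵖ AddCommGrpCat.{u + 1}).obj (op V))
  rw [ShortComplex.ab_exact_iff] at h''
  exact h'' s ((EtSupp.EtaleBC.unitApp_eq_zero_iff j F V s).mpr h)

instance preservesFiniteLimits_gammaSupp [EtCoh.BCCont j] :
    PreservesFiniteLimits (EtDual.gammaSupp j) := by
  haveI := EtDepthLib.preservesFiniteLimits_secSupp j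
  unfold EtDual.gammaSupp
  infer_instance

end Groth.Agent.EtHensExc
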